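import Cfsg.Agent.MaxSub.LagrangianHerm
import Cfsg.Agent.Lib.Unitary.Count
import Cfsg.Prelude.Def_GeometricClasses

/-!
Pairs of complementary totally singular subspaces of the standard unitary space: coordinates, the linear group
fixing them, and transitivity of `SU`.
-/

set_option autoImplicit false
set_option linter.unusedSectionVars false

namespace Cfsg.Agent.PairU

open Module Matrix
open Cfsg.Agent (LagPair.IsPair)

variable {F : Type*} [Field F] [Fintype F] {n m q : ℕ} (hF : Fintype.card F = q ^ 2)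

local notation "h₀" => Cfsg.hermForm n F q

include hF

/-- A subspace pairing faithfully with another one is not larger. -/
theorem dual_le {A B : Submodule F (Fin n → F)} (h : ∀ a ∈ A, (∀ b ∈ B, h₀ b a = 0) → a = 0) :
    finrank F A ≤ finrank F B := by
  let Q : A → (B →ₗ[F] F) := fun a =>
    { toFun := fun b => h₀ b.1 a.1
      map_add' := fun x y => Unitary.herm_add_left _ _ _
      map_smul' := fun c x => Unitary.herm_smul_left _ _ _ }
  have hinj : Function.Injective Q := fun a a' e => Subtype.ext (sub_eq_zero.1 (h _ (sub_mem a.2 a'.2) fun b hb => by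
    have h1 : h₀ b a.1 = h₀ b a'.1 := LinearMap.congr_fun e ⟨b, hb⟩
    rw [show h₀ b (a.1 - a'.1) = h₀ b a.1 - h₀ b a'.1 from Unitary.herm_sub_right hF _ _ _, h1, sub_self]))
  haveI : Finite (B →ₗ[F] F) := Module.finite_of_finite F
  have h1 := Nat.card_le_card_of_injective Q hinj
  rw [Module.natCard_eq_pow_finrank (K := F) (V := A), Module.natCard_eq_pow_finrank (K := F) (V := B →ₗ[F] F),
    show finrank F (B →ₗ[F] F) = finrank F B from Subspace.dual_finrank_eq] at h1
  exact (Nat.pow_le_pow_iff_right (by rw [Nat.card_eq_fintype_card]; exact Fintype.one_lt_card)).1 h1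

theorem eq_zero_of_left {v : Fin n → F} (h : ∀ x, h₀ x v = 0) : v = 0 :=
  Unitary.eq_zero_of_herm hF fun y => (Unitary.herm_eq_zero_comm hF).2 (h y)

/-- Totally singular subspaces spanning the space form a pair. -/
theorem isPair_of_sup (hn : n = 2 * m) {U W : Submodule F (Fin n → F)} (hsup : U ⊔ W = ⊤)
    (hU : ∀ x ∈ U, ∀ y ∈ U, h₀ x y = 0) (hW : ∀ x ∈ W, ∀ y ∈ W, h₀ x y = 0) :
    LagPair.IsPair h₀ m U W := by
  have key : ∀ U W : Submodule F (Fin n → F), U ⊔ W = ⊤ → (∀ x ∈ U, ∀ y ∈ U, h₀ x y = 0) → ∀ a ∈ U,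
      (∀ b ∈ W, h₀ b a = 0) → a = 0 := by
    intro U W hsup hU a ha hb
    refine eq_zero_of_left hF fun x => ?_
    obtain ⟨u, hu, w, hw, rfl⟩ := Submodule.mem_sup.1 (hsup ▸ Submodule.mem_top : x ∈ U ⊔ W)
    rw [show h₀ (u + w) a = h₀ u a + h₀ w a from Unitary.herm_add_left _ _ _, hU u hu a ha, hb w hw, add_zero]
  have hd : U ⊓ W = ⊥ := by
    rw [Submodule.eq_bot_iff]
    exact fun v hv => key U W hsup hU v hv.1 fun b hb => hW b hb v hv.2
  have h1 := dual_le hF (key U W hsup hU)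
  have h2 := dual_le hF (key W U (sup_comm U W ▸ hsup) hW)
  have h3 := Submodule.finrank_sup_add_finrank_inf_eq U W
  rw [hsup, hd, finrank_bot, finrank_top, finrank_pi, Fintype.card_fin] at h3
  exact ⟨⟨disjoint_iff.2 hd, codisjoint_iff.2 hsup⟩, hU, hW, by omega, by omega⟩

omit [Fintype F] hF in
/-- The hyperbolic hermitian form in coordinates. -/
def hyp (q : ℕ) (x y : Fin m ⊕ Fin m → F) : F :=
  ∑ i, (x (Sum.inl i) * y (Sum.inr i) ^ q + x (Sum.inr i) * y (Sum.inl i) ^ q)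

/-- Coordinates adapted to a pair. -/
structure Chart (hF : Fintype.card F = q ^ 2) (U W : Submodule F (Fin n → F)) (m : ℕ) where
  /-- The coordinate map. -/
  Φ : (Fin m ⊕ Fin m → F) ≃ₗ[F] (Fin n → F)
  form : ∀ x y, Cfsg.hermForm n F q (Φ x) (Φ y) = hyp q x y
  left : ∀ v, v ∈ U ↔ ∃ a : Fin m → F, Φ (Sum.elim a 0) = v
  right : ∀ v, v ∈ W ↔ ∃ a : Fin m → F, Φ (Sum.elim 0 a) = v

theorem exists_chart (hn : n = 2 * m) {U W : Submodule F (Fin n → F)} (hp : LagPair.IsPair h₀ m U W) :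
    Nonempty (Chart hF U W m) := by
  classical
  have hf := LagPair.isPairForm_herm (n := n) hF
  let bU := Module.finBasisOfFinrankEq F U hp.fin₁
  choose w hwW hw using fun j => LagPair.exists_rep_mem hf hp (bU.coord j)
  have huw : ∀ i j, h₀ (bU i) (w j) = if i = j then 1 else 0 := fun i j => by
    rw [hw, Basis.coord_apply, Basis.repr_self, Finsupp.single_apply]
  have hwu : ∀ i j, h₀ (w j) (bU i) = if i = j then 1 else 0 := fun i j => by
    rw [show h₀ (w j) (bU i) = h₀ (bU i) (w j) ^ q from Unitary.herm_swap hF _ _, huw]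
    split_ifs
    · rw [one_pow]
    · rw [zero_pow (Unitary.q_pos hF).ne']
  let Φ : (Fin m ⊕ Fin m → F) →ₗ[F] (Fin n → F) := Fintype.linearCombination F (Sum.elim (fun i => (bU i : Fin n → F)) w)
  have hΦ : ∀ x, Φ x = ∑ i, x (Sum.inl i) • (bU i : Fin n → F) + ∑ i, x (Sum.inr i) • w i := fun x => by
    simp [Φ, Fintype.linearCombination_apply, Fintype.sum_sum_type]
  have hform : ∀ x y, h₀ (Φ x) (Φ y) = hyp q x y := by
    intro x y
    have e1 : ∀ i j, h₀ (bU i : Fin n → F) (bU j) = 0 := fun i j => hp.iso₁ _ (bU i).2 _ (bU j).2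
    have e2 : ∀ i j, h₀ (w i) (w j) = 0 := fun i j => hp.iso₂ _ (hwW i) _ (hwW j)
    have hsr : ∀ (s : Finset (Fin m)) (v : Fin n → F) (g : Fin m → Fin n → F),
        h₀ v (∑ i ∈ s, g i) = ∑ i ∈ s, h₀ v (g i) := by
      intro s v g
      induction s using Finset.induction_on with
      | empty => simpa using Unitary.herm_zero_right hF v
      | insert a s ha ih =>
        rw [Finset.sum_insert ha, Finset.sum_insert ha]
        exact (Unitary.herm_add_right hF _ _ _).trans (congrArg _ ih)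
    rw [hΦ, hΦ]
    simp only [Unitary.herm_add_left, Unitary.herm_add_right hF, Unitary.herm_sum_left, hsr,
      Unitary.herm_smul_left, Unitary.herm_smul_right hF, huw, hwu, e1, e2, mul_ite, mul_one, mul_zero,
      Finset.sum_ite_eq, Finset.sum_ite_eq', Finset.mem_univ, if_true, Finset.sum_const_zero, zero_add, add_zero]
    rw [hyp, Finset.sum_add_distrib, add_comm]
    simp only [mul_comm]
  have hinj : Function.Injective Φ := by
    rw [injective_iff_map_eq_zero]
    intro x hx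
    have key : ∀ y, hyp q x y = 0 := fun y => by rw [← hform, hx]; exact Unitary.herm_zero_left _
    funext k
    rcases k with i | i
    · simpa [hyp, Pi.single_apply, zero_pow (Unitary.q_pos hF).ne', ite_pow] using key (Pi.single (Sum.inr i) 1)
    · simpa [hyp, Pi.single_apply, zero_pow (Unitary.q_pos hF).ne', ite_pow] using key (Pi.single (Sum.inl i) 1)
  let e : (Fin m ⊕ Fin m → F) ≃ₗ[F] (Fin n → F) := LinearEquiv.ofBijective Φ ⟨hinj,
    (LinearMap.injective_iff_surjective_of_finrank_eq_finrank (by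
      rw [finrank_pi, finrank_pi, Fintype.card_sum, Fintype.card_fin, Fintype.card_fin]; omega)).1 hinj⟩
  have hl : ∀ a, Φ (Sum.elim a 0) = ∑ i, a i • (bU i : Fin n → F) := fun a => by simp [hΦ]
  have hr : ∀ a, Φ (Sum.elim 0 a) = ∑ i, a i • w i := fun a => by simp [hΦ]
  refine ⟨⟨e, hform, fun v => ⟨fun hv => ⟨fun i => bU.repr ⟨v, hv⟩ i, ?_⟩, ?_⟩, fun v => ⟨fun hv => ?_, ?_⟩⟩⟩
  · show Φ _ = v
    rw [hl]
    conv_rhs => rw [show v = ((⟨v, hv⟩ : U) : Fin n → F) from rfl, ← bU.sum_repr ⟨v, hv⟩, Submodule.coe_sum]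
    rfl
  · rintro ⟨a, rfl⟩
    show Φ _ ∈ U
    rw [hl]
    exact sum_mem fun i _ => U.smul_mem _ (bU i).2
  · obtain ⟨x, rfl⟩ := e.surjective v
    refine ⟨fun i => x (Sum.inr i), congrArg e (funext fun k => ?_)⟩
    rcases k with i | i
    · have h0 : ∑ i, x (Sum.inl i) • (bU i : Fin n → F) ∈ U ⊓ W := by
        refine ⟨sum_mem fun i _ => U.smul_mem _ (bU i).2, ?_⟩
        have hv' : Φ x ∈ W := hv
        rw [hΦ] at hv'
        have := sub_mem hv' (sum_mem fun i _ => W.smul_mem (x (Sum.inr i)) (hwW i) : ∑ i, x (Sum.inr i) • w i ∈ W)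
        simpa using this
      rw [hp.compl.inf_eq_bot, Submodule.mem_bot] at h0
      have h1 : ∑ i, x (Sum.inl i) • bU i = 0 := Subtype.ext (by
        rw [Submodule.coe_sum]; exact h0)
      exact (Fintype.linearIndependent_iff.1 bU.linearIndependent _ h1 i).symm
    · rfl
  · rintro ⟨a, rfl⟩
    show Φ _ ∈ W
    rw [hr]
    exact sum_mem fun i _ => W.smul_mem _ (hwW i)

/-- The block map of `A`, acting by `A` and its contragredient conjugate. -/
noncomputable def blockMap (A : GL (Fin m) F) : Matrix (Fin m ⊕ Fin m) (Fin m ⊕ Fin m) F :=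
  fromBlocks (A : Matrix (Fin m) (Fin m) F) 0 0
    ((Unitary.conjHom hF).mapMatrix (((A⁻¹ : GL (Fin m) F) : Matrix (Fin m) (Fin m) F)ᵀ))

theorem blockMap_mul (A B : GL (Fin m) F) : blockMap hF (A * B) = blockMap hF A * blockMap hF B := by
  rw [blockMap, blockMap, blockMap, fromBlocks_multiply, _root_.mul_inv_rev, Units.val_mul, Units.val_mul, transpose_mul,
    map_mul]
  simp

theorem blockMap_one : blockMap hF (1 : GL (Fin m) F) = 1 := by
  rw [blockMap, inv_one, Units.val_one, transpose_one, map_one, fromBlocks_one]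

theorem blockMap_det (A : GL (Fin m) F) : (blockMap hF A).det =
    (A : Matrix (Fin m) (Fin m) F).det * ((A⁻¹ : GL (Fin m) F) : Matrix (Fin m) (Fin m) F).det ^ q := by
  rw [blockMap, det_fromBlocks_zero₁₂, ← RingHom.map_det, det_transpose, Unitary.conjHom_apply]

theorem blockMap_left (A : GL (Fin m) F) (a : Fin m → F) :
    blockMap hF A *ᵥ Sum.elim a 0 = Sum.elim ((A : Matrix (Fin m) (Fin m) F) *ᵥ a) 0 := by
  rw [blockMap, fromBlocks_mulVec]; simp [Sum.elim_comp_inl, Sum.elim_comp_inr]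

theorem blockMap_right (A : GL (Fin m) F) (a : Fin m → F) :
    blockMap hF A *ᵥ Sum.elim (0 : Fin m → F) a = Sum.elim (0 : Fin m → F)
      ((Unitary.conjHom hF).mapMatrix (((A⁻¹ : GL (Fin m) F) : Matrix (Fin m) (Fin m) F)ᵀ) *ᵥ a) := by
  rw [blockMap, fromBlocks_mulVec]; simp [Sum.elim_comp_inl, Sum.elim_comp_inr]

theorem hyp_blockMap (A : GL (Fin m) F) (x y : Fin m ⊕ Fin m → F) :
    hyp q (blockMap hF A *ᵥ x) (blockMap hF A *ᵥ y) = hyp q x y := by
  set M := (A : Matrix (Fin m) (Fin m) F)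
  set N := ((A⁻¹ : GL (Fin m) F) : Matrix (Fin m) (Fin m) F)
  have hNM : N * M = 1 := by rw [← Units.val_mul, inv_mul_cancel, Units.val_one]
  set σ := Unitary.conjHom hF
  have hσσ : ∀ z : F, σ (σ z) = z := Unitary.pow_q_pow_q hF
  have h1 : ∀ a b : Fin m → F, (M *ᵥ a) ⬝ᵥ (σ ∘ (σ.mapMatrix Nᵀ *ᵥ b)) = a ⬝ᵥ (σ ∘ b) := fun a b => by
    have e : σ ∘ (σ.mapMatrix Nᵀ *ᵥ b) = Nᵀ *ᵥ (σ ∘ b) := by
      funext i
      rw [Function.comp_apply, RingHom.map_mulVec, RingHom.mapMatrix_apply, Matrix.map_map]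
      congr 1
      congr 1
      ext i j; exact hσσ _
    rw [e, dotProduct_mulVec, vecMul_transpose, mulVec_mulVec, hNM, one_mulVec]
  have h2 : ∀ a b : Fin m → F, (σ.mapMatrix Nᵀ *ᵥ b) ⬝ᵥ (σ ∘ (M *ᵥ a)) = b ⬝ᵥ (σ ∘ a) := fun a b => by
    have := congrArg σ (h1 a b)
    rw [dotProduct, dotProduct, map_sum, map_sum] at this
    simp only [map_mul, Function.comp_apply, hσσ] at this
    rw [dotProduct, dotProduct]
    simpa [Function.comp_apply, mul_comm] using this
  simp only [hyp, blockMap, fromBlocks_mulVec, zero_mulVec, add_zero, zero_add, Sum.elim_inl, Sum.elim_inr,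
    Finset.sum_add_distrib]
  exact congrArg₂ (· + ·) (h1 (x ∘ Sum.inl) (y ∘ Sum.inr)) (h2 (y ∘ Sum.inl) (x ∘ Sum.inr))

/-- An element of `GU` from a block map in a chart. -/
theorem exists_block {U W : Submodule F (Fin n → F)} (C : Chart hF U W m) :
    ∃ ψ : GL (Fin m) F →* GL (Fin n) F, Function.Injective ψ ∧ ∀ A, ψ A ∈ Cfsg.GU n F q ∧
      (∀ v ∈ U, (ψ A : Matrix (Fin n) (Fin n) F) *ᵥ v ∈ U) ∧ (∀ v ∈ W, (ψ A : Matrix (Fin n) (Fin n) F) *ᵥ v ∈ W) ∧
      (ψ A : Matrix (Fin n) (Fin n) F).det = (blockMap hF A).det := by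
  let φ : GL (Fin m) F →* Module.End F (Fin n → F) :=
    { toFun := fun A => C.Φ.toLinearMap ∘ₗ Matrix.toLin' (blockMap hF A) ∘ₗ C.Φ.symm.toLinearMap
      map_one' := LinearMap.ext fun v => by simp [blockMap_one]
      map_mul' := fun A B => LinearMap.ext fun v => by simp [blockMap_mul, Matrix.mulVec_mulVec] }
  let ψ : GL (Fin m) F →* GL (Fin n) F :=
    (Units.map (LinearMap.toMatrixAlgEquiv' (R := F) (n := Fin n)).toRingEquiv.toMulEquiv.toMonoidHom).comp
      φ.toHomUnits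
  have hval : ∀ A, (ψ A : Matrix (Fin n) (Fin n) F) = LinearMap.toMatrix' (φ A) := fun A => rfl
  have hψ : ∀ A v, (ψ A : Matrix (Fin n) (Fin n) F) *ᵥ v = C.Φ (blockMap hF A *ᵥ C.Φ.symm v) := fun A v => by
    rw [hval, LinearMap.toMatrix'_mulVec]; rfl
  refine ⟨ψ, fun A B hAB => ?_, fun A => ⟨fun x y => ?_, fun v hv => ?_, fun v hv => ?_, ?_⟩⟩
  · refine Units.ext (Matrix.ext_of_mulVec_single fun i => ?_)
    have h := hψ A (C.Φ (Sum.elim (Pi.single i 1) 0))
    rw [hAB, hψ, C.Φ.symm_apply_apply, blockMap_left, blockMap_left] at h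
    funext k
    exact (congrFun (C.Φ.injective h) (Sum.inl k)).symm
  · show h₀ ((ψ A : Matrix (Fin n) (Fin n) F) *ᵥ x) ((ψ A : Matrix (Fin n) (Fin n) F) *ᵥ y) = h₀ x y
    rw [hψ, hψ, C.form, hyp_blockMap, ← C.form, C.Φ.apply_symm_apply, C.Φ.apply_symm_apply]
  · obtain ⟨a, rfl⟩ := (C.left v).1 hv
    rw [hψ, C.Φ.symm_apply_apply, blockMap_left]
    exact (C.left _).2 ⟨_, rfl⟩
  · obtain ⟨a, rfl⟩ := (C.right v).1 hv
    rw [hψ, C.Φ.symm_apply_apply, blockMap_right]
    exact (C.right _).2 ⟨_, rfl⟩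
  · rw [hval, LinearMap.det_toMatrix']
    show LinearMap.det (C.Φ.toLinearMap ∘ₗ Matrix.toLin' (blockMap hF A) ∘ₗ C.Φ.symm.toLinearMap) = _
    rw [LinearMap.det_conj, LinearMap.det_toLin']

end Cfsg.Agent.PairU
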