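import Cfsg.Agent.PairU.Move
import Cfsg.Agent.ClMax99.InvSub
import Cfsg.Agent.Lib.UnitaryOrthogonal.Basic

/-!
Primes dividing the number of pairs, Singer elements, and invariant pairs of involutions modulo scalars.
-/

set_option autoImplicit false
set_option linter.unusedSectionVars false

namespace Cfsg.Agent.PairU

open Module Matrix

variable {F : Type*} [Field F] [Fintype F] {n m q r : ℕ} (hF : Fintype.card F = q ^ 2)

local notation "h₀" => Cfsg.hermForm n F q

include hF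

theorem arith (hm : 2 ≤ m) (hr : r.Prime) (hr2 : r ≠ 2) (hrq : ¬ r ∣ q)
    (h : Nat.card (GL (Fin m) F) * r ∣ Nat.card (Cfsg.GU (2 * m) F q)) :
    ∃ b, b = orderOf ((q ^ 2 : ℕ) : ZMod r) ∧ Odd b ∧ b + 1 ≤ 2 * m ∧ r ∣ q ^ b + 1 := by
  haveI := Fact.mk hr
  have hq2 := Unitary.two_le_q hF
  set A := ∏ j ∈ Finset.range m, (q ^ (2 * (j + 1)) - 1)
  have hA : 0 < A := Finset.prod_pos fun j _ => Nat.sub_pos_of_lt (Nat.one_lt_pow (by omega) (by omega))
  have hGL : Nat.card (GL (Fin m) F) = q ^ (2 * ∑ i ∈ Finset.range m, i) * A := by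
    rw [Matrix.card_GL_field, hF, Fin.prod_univ_eq_prod_range (fun i => (q ^ 2) ^ m - (q ^ 2) ^ i) m, Finset.mul_sum,
      ← Finset.prod_pow_eq_pow_sum, show A = ∏ j ∈ Finset.range m, (q ^ (2 * (m - 1 - j + 1)) - 1) from
        (Finset.prod_range_reflect (fun j => q ^ (2 * (j + 1)) - 1) m).symm, ← Finset.prod_mul_distrib]
    refine Finset.prod_congr rfl fun i hi => ?_
    rw [Finset.mem_range] at hi
    rw [Nat.mul_sub, mul_one, ← pow_add, ← pow_mul, ← pow_mul, show 2 * i + 2 * (m - 1 - i + 1) = 2 * m by omega]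
  have hsplit : ∀ k, ∏ i ∈ Finset.range (2 * k), (if Even i then q ^ (i + 1) + 1 else q ^ (i + 1) - 1) =
      (∏ j ∈ Finset.range k, (q ^ (2 * (j + 1)) - 1)) * ∏ j ∈ Finset.range k, (q ^ (2 * j + 1) + 1) := by
    intro k
    induction k with
    | zero => simp
    | succ k ih =>
      rw [show 2 * (k + 1) = 2 * k + 1 + 1 by ring, Finset.prod_range_succ, Finset.prod_range_succ, ih,
        if_pos (even_two_mul k), if_neg (by simp [parity_simps]), Finset.prod_range_succ, Finset.prod_range_succ,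
        show 2 * k + 1 + 1 = 2 * (k + 1) by ring]
      ring
  rw [hGL, Unitary.card_GU hF, hsplit] at h
  have h1 : A * r ∣ A * (q ^ (2 * m * (2 * m - 1) / 2) * ∏ j ∈ Finset.range m, (q ^ (2 * j + 1) + 1)) := by
    rw [mul_left_comm A]
    exact (mul_dvd_mul_right (dvd_mul_left A _) r).trans h
  rcases hr.dvd_mul.1 (Nat.dvd_of_mul_dvd_mul_left hA h1) with h | h
  · exact absurd (hr.dvd_of_dvd_pow h) hrq
  obtain ⟨j, hj, hjd⟩ := (Prime.dvd_finsetProd_iff hr.prime _).1 h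
  rw [Finset.mem_range] at hj
  set b := orderOf ((q ^ 2 : ℕ) : ZMod r)
  have h0 := (ZMod.natCast_eq_zero_iff _ r).2 hjd
  push_cast at h0
  have hm1 : (q : ZMod r) ^ (2 * j + 1) = -1 := eq_neg_of_add_eq_zero_left h0
  have hdv : b ∣ 2 * j + 1 := orderOf_dvd_of_pow_eq_one (by
    push_cast
    rw [← pow_mul, mul_comm, pow_mul, hm1, neg_one_sq])
  have hbodd : Odd b := (odd_two_mul_add_one j).of_dvd_nat hdv
  refine ⟨b, rfl, hbodd, by have := Nat.le_of_dvd (by omega) hdv; omega, ?_⟩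
  rw [← ZMod.natCast_eq_zero_iff]
  push_cast
  have hsq : ((q : ZMod r) ^ b) ^ 2 = 1 := by
    rw [← pow_mul, mul_comm, pow_mul]
    exact_mod_cast pow_orderOf_eq_one ((q ^ 2 : ℕ) : ZMod r)
  have hne : (q : ZMod r) ^ b ≠ 1 := fun e => by
    obtain ⟨c, hc⟩ := hdv
    rw [hc, pow_mul, e, one_pow] at hm1
    have h20 : ((2 : ℕ) : ZMod r) = 0 := by push_cast; linear_combination hm1
    have := Nat.le_of_dvd two_pos ((ZMod.natCast_eq_zero_iff _ _).1 h20)
    have := hr.two_le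
    omega
  rw [(sq_eq_one_iff.1 hsq).resolve_left hne, neg_add_cancel]

/-- An element of order `r ∣ q^b + 1` moving `b` dimensions. -/
theorem exists_odd_elt (hr : r.Prime) (hrF : (r : F) ≠ 0) {b : ℕ} (hb : b = orderOf ((q ^ 2 : ℕ) : ZMod r))
    (hb1 : b ≠ 1) (hodd : Odd b) (hrb : r ∣ q ^ b + 1) (hbn : b ≤ n) :
    ∃ X : GL (Fin n) F, X ∈ Cfsg.GU n F q ⊓ Cfsg.Geo.specialLinear (Fin n) F ∧ X ^ r = 1 ∧
      finrank F (LinearMap.range (Matrix.toLin' (X : Matrix (Fin n) (Fin n) F) - 1)) = b := by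
  classical
  haveI := Fact.mk hr
  have hq2 := Unitary.two_le_q hF
  have hrq1 : ¬ r ∣ q + 1 := fun h => hb1 (by
    rw [hb, orderOf_eq_one_iff]
    have h0 := (ZMod.natCast_eq_zero_iff _ r).2 h
    push_cast at h0 ⊢
    rw [eq_neg_of_add_eq_zero_left h0, neg_one_sq])
  have hb0 : 0 < b := hodd.pos
  let S : Finset (Fin n) := Finset.univ.filter fun i : Fin n => b ≤ i.1
  have hSc : Sᶜ.card = b := by
    rw [show Sᶜ = (Finset.univ : Finset (Fin b)).map (Fin.castLEEmb hbn) from ?_, Finset.card_map, Finset.card_univ,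
      Fintype.card_fin]
    ext i
    simp only [S, Finset.mem_compl, Finset.mem_filter, Finset.mem_univ, true_and, Finset.mem_map, not_le]
    exact ⟨fun h => ⟨⟨i.1, h⟩, Fin.ext rfl⟩, by rintro ⟨k, rfl⟩; exact k.2⟩
  have hcard := Unitary.card_fixGU hF b S hSc
  obtain ⟨c, hc⟩ : ∃ c, b = c + 1 := ⟨b - 1, by omega⟩
  obtain ⟨y, hy⟩ := exists_prime_orderOf_dvd_card' (G := ↥(Unitary.fixGU S : Subgroup (Cfsg.GU n F q))) r (by
    rw [hcard]
    refine dvd_mul_of_dvd_right (dvd_trans ?_ (Finset.dvd_prod_of_mem _ (Finset.mem_range.2 (show c < b by omega)))) _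
    rw [if_pos (by rw [hc, Nat.odd_add_one, Nat.not_odd_iff_even] at hodd; exact hodd), ← hc]
    exact hrb)
  set X : GL (Fin n) F := y.1.1 with hX
  have hXr : X ^ r = 1 := by
    rw [hX, ← SubmonoidClass.coe_pow, ← SubmonoidClass.coe_pow, ← hy, pow_orderOf_eq_one]; rfl
  have hdet : Matrix.GeneralLinearGroup.det X = 1 := by
    set δ := Unitary.detGU y.1
    have h1 : δ ^ r = 1 := by
      rw [← map_pow, ← SubmonoidClass.coe_pow, ← hy, pow_orderOf_eq_one, OneMemClass.coe_one, map_one]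
    have h2 : δ ^ (q + 1) = 1 := Units.ext (Unitary.det_norm hF y.1)
    have := pow_gcd_eq_one.2 ⟨h1, h2⟩
    rwa [(hr.coprime_iff_not_dvd.2 hrq1).gcd_eq_one, pow_one] at this
  refine ⟨X, ⟨y.1.2, hdet⟩, hXr, ?_⟩
  set f := Matrix.toLin' (X : Matrix (Fin n) (Fin n) F)
  have hf : f ^ r = 1 := by
    rw [← Matrix.toLin'_pow, ← Units.val_pow_eq_pow_val, hXr, Units.val_one, Matrix.toLin'_one]; rfl
  have hdvd := ClMax99.Inv.dvd_finrank_moved hrF hf (W := ⊤) (by simp)
  rw [Submodule.map_top, hF, ← hb] at hdvd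
  have hfix : ∀ i ∈ S, f (Unitary.eI i) = Unitary.eI i := fun i hi => Unitary.mem_fixGU.1 y.2 i hi
  have hle : finrank F (LinearMap.range (f - 1)) ≤ b := by
    have h1 : Submodule.span F (Set.range fun i : {i // i ∈ S} => (Unitary.eI i.1 : Fin n → F)) ≤ LinearMap.ker (f - 1) := by
      rw [Submodule.span_le]
      rintro _ ⟨i, rfl⟩
      rw [SetLike.mem_coe, LinearMap.mem_ker, LinearMap.sub_apply, Module.End.one_apply, hfix i.1 i.2, sub_self]
    have h2 := Submodule.finrank_mono h1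
    rw [finrank_span_eq_card, Fintype.card_coe] at h2
    · have h3 := LinearMap.finrank_range_add_finrank_ker (f - 1)
      rw [finrank_pi, Fintype.card_fin] at h3
      rw [Finset.card_compl, Fintype.card_fin] at hSc
      omega
    · exact (Pi.basisFun F (Fin n)).linearIndependent.comp (fun i : {i // i ∈ S} => i.1) Subtype.val_injective |> fun h => by
        simpa [Function.comp_def, Unitary.eI] using h
  have hne : finrank F (LinearMap.range (f - 1)) ≠ 0 := fun h => by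
    rw [Submodule.finrank_eq_zero, LinearMap.range_eq_bot, sub_eq_zero] at h
    have : y = 1 := Subtype.ext (Subtype.ext (Units.ext (Matrix.toLin'.injective (by
      show f = _
      rw [h, OneMemClass.coe_one, OneMemClass.coe_one, Units.val_one, Matrix.toLin'_one]; rfl))))
    rw [this, orderOf_one] at hy
    exact hr.ne_one hy.symm
  exact le_antisymm hle (Nat.le_of_dvd (Nat.pos_of_ne_zero hne) hdvd)

/-- An isometry of determinant one which squares to a scalar fixes a pair. -/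
theorem exists_pair_of_invol (hm : 0 < m) (h2 : (2 : F) ≠ 0) {x : GL (Fin (2 * m)) F} (hx : x ∈ Cfsg.GU (2 * m) F q)
    (hdet : (x : Matrix (Fin (2 * m)) (Fin (2 * m)) F).det = 1) {z : F}
    (hz : ((x ^ 2 : GL (Fin (2 * m)) F) : Matrix (Fin (2 * m)) (Fin (2 * m)) F) = z • 1)
    (hval : padicValNat 2 (q + 1) ≤ padicValNat 2 (2 * m)) :
    ∃ U W, LagPair.IsPair (Cfsg.hermForm (2 * m) F q) m U W ∧
      (∀ v ∈ U, (x : Matrix (Fin (2 * m)) (Fin (2 * m)) F) *ᵥ v ∈ U) ∧
      (∀ v ∈ W, (x : Matrix (Fin (2 * m)) (Fin (2 * m)) F) *ᵥ v ∈ W) := by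
  classical
  have hq2 := Unitary.two_le_q hF
  set X := Matrix.toLin' (x : Matrix (Fin (2 * m)) (Fin (2 * m)) F) with hX
  have hXX : ∀ v, X (X v) = z • v := fun v => by
    rw [hX, ← Matrix.toLin'_mul_apply, ← Units.val_mul, ← pow_two, hz, map_smul, Matrix.toLin'_one]; rfl
  have hiso : ∀ u v, Cfsg.hermForm (2 * m) F q (X u) (X v) = Cfsg.hermForm (2 * m) F q u v := fun u v => by
    rw [hX, Matrix.toLin'_apply, Matrix.toLin'_apply]; exact hx u v
  let e0 : Fin (2 * m) → F := Unitary.eI ⟨0, by omega⟩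
  have hzn : z ^ (q + 1) = 1 := by
    have h := (hiso (X e0) (X e0)).trans (hiso e0 e0)
    rw [hXX] at h
    have e1 : Unitary.herm q e0 e0 = 1 := by rw [Unitary.herm_eI_eI hF, if_pos rfl]
    change Unitary.herm q (z • e0) (z • e0) = Unitary.herm q e0 e0 at h
    rw [Unitary.herm_smul_left, Unitary.herm_smul_right hF, e1, mul_one] at h
    rw [pow_succ']; exact h
  have hz0 : z ≠ 0 := fun e => by simp [e] at hzn
  have hqodd : Odd q := by
    rw [← Nat.not_even_iff_odd]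
    intro hev
    obtain ⟨p', k, hp', hk, hc, hqp⟩ := Unitary.exists_prime_pow hF
    have : p' = 2 := ((Nat.prime_dvd_prime_iff_eq Nat.prime_two hp').1
      (Nat.prime_two.dvd_of_dvd_pow (hqp ▸ hev.two_dvd))).symm
    subst this
    exact h2 (CharP.cast_eq_zero F 2 ▸ by norm_num)
  obtain ⟨a, ha⟩ : IsSquare z := by
    obtain ⟨l, hl⟩ := hqodd
    refine (FiniteField.isSquare_iff ?_ hz0).2 ?_
    · intro e
      exact h2 (by have := CharP.cast_eq_zero F (ringChar F); rw [e] at this; exact_mod_cast this)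
    · rw [hF, show q ^ 2 / 2 = (q + 1) * l by
        subst hl
        have : (2 * l + 1) ^ 2 = 2 * ((2 * l + 1 + 1) * l) + 1 := by ring
        omega, pow_mul, hzn, one_pow]
  have ha0 : a ≠ 0 := fun e => by simp [e] at ha; exact hz0 ha
  have haq : a ^ (q + 1) = 1 ∨ a ^ (q + 1) = -1 := by
    refine sq_eq_one_iff.1 ?_
    rw [← pow_mul, mul_comm, pow_mul, pow_two, ← ha, hzn]
  set Vp := LinearMap.ker (X - a • 1)
  set Vm := LinearMap.ker (X + a • 1)
  have hVp : ∀ v, v ∈ Vp ↔ X v = a • v := fun v => by simp [Vp, sub_eq_zero]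
  have hVm : ∀ v, v ∈ Vm ↔ X v = -(a • v) := fun v => by simp [Vm, add_eq_zero_iff_eq_neg]
  have hsup : Vp ⊔ Vm = ⊤ := by
    rw [eq_top_iff]
    intro v _
    rw [show v = (2 : F)⁻¹ • (v + a⁻¹ • X v) + (2 : F)⁻¹ • (v - a⁻¹ • X v) by match_scalars <;> field_simp <;> ring]
    refine Submodule.add_mem_sup (Submodule.smul_mem _ _ ((hVp _).2 ?_)) (Submodule.smul_mem _ _ ((hVm _).2 ?_))
    · rw [map_add, map_smul, hXX, ha]
      match_scalars <;> field_simp
    · rw [map_sub, map_smul, hXX, ha]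
      match_scalars <;> field_simp
  have hherm : ∀ (s t : F) u v, Cfsg.hermForm (2 * m) F q (s • u) (t • v) = s * t ^ q * Cfsg.hermForm (2 * m) F q u v := fun s t u v => by
    show Unitary.herm q (s • u) (t • v) = _
    rw [Unitary.herm_smul_left, Unitary.herm_smul_right hF, ← mul_assoc]
  have hXinv : ∀ v ∈ Vp, X v ∈ Vp := fun v hv => by rw [(hVp v).1 hv]; exact Vp.smul_mem _ hv
  have hXinv' : ∀ v ∈ Vm, X v ∈ Vm := fun v hv => by rw [(hVm v).1 hv]; exact Vm.neg_mem (Vm.smul_mem _ hv)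
  rcases haq with h1 | h1
  swap
  · refine ⟨Vp, Vm, isPair_of_sup hF rfl hsup (fun u hu v hv => ?_) (fun u hu v hv => ?_), hXinv, hXinv'⟩
    · have h := hiso u v
      rw [(hVp u).1 hu, (hVp v).1 hv, hherm, ← pow_succ', h1] at h
      exact (mul_eq_zero.1 (show (2 : F) * _ = 0 by linear_combination -h)).resolve_left h2
    · have h := hiso u v
      rw [(hVm u).1 hu, (hVm v).1 hv, ← neg_smul, ← neg_smul, hherm, Unitary.neg_pow_q hF, neg_mul_neg, ← pow_succ', h1] at h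
      exact (mul_eq_zero.1 (show (2 : F) * _ = 0 by linear_combination -h)).resolve_left h2
  have horth : ∀ u ∈ Vp, ∀ v ∈ Vm, Cfsg.hermForm (2 * m) F q u v = 0 := fun u hu v hv => by
    have h := hiso u v
    rw [(hVp u).1 hu, (hVm v).1 hv, ← neg_smul, hherm, Unitary.neg_pow_q hF, mul_neg, ← pow_succ', h1] at h
    exact (mul_eq_zero.1 (show (2 : F) * _ = 0 by linear_combination -h)).resolve_left h2
  have horth' : ∀ u ∈ Vp, ∀ v ∈ Vm, Cfsg.hermForm (2 * m) F q v u = 0 := fun u hu v hv =>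
    (Unitary.herm_eq_zero_comm hF).1 (horth u hu v hv)
  have hnd : ∀ S T : Submodule F (Fin (2 * m) → F), S ⊔ T = ⊤ → (∀ u ∈ S, ∀ v ∈ T, Cfsg.hermForm (2 * m) F q v u = 0) →
      ∀ w ∈ S, (∀ v ∈ S, Cfsg.hermForm (2 * m) F q v w = 0) → w = 0 := by
    intro S T hST ho w hw h
    refine eq_zero_of_left hF fun y => ?_
    obtain ⟨s, hs, t, ht, rfl⟩ := Submodule.mem_sup.1 (hST.symm ▸ Submodule.mem_top : y ∈ S ⊔ T)
    show Unitary.herm q (s + t) w = 0
    rw [Unitary.herm_add_left]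
    show Cfsg.hermForm (2 * m) F q s w + Cfsg.hermForm (2 * m) F q t w = 0
    rw [h s hs, ho w hw t ht, add_zero]
  have hndp := hnd Vp Vm hsup horth'
  have hndm := hnd Vm Vp (sup_comm Vm Vp ▸ hsup) fun u hu v hv => horth v hv u hu
  have hdisj : Disjoint Vp Vm := by
    rw [Submodule.disjoint_def]
    exact fun v hvp hvm => hndp v hvp fun u hu => horth u hu v hvm
  have hdim : finrank F Vp + finrank F Vm = 2 * m := by
    have h := Submodule.finrank_sup_add_finrank_inf_eq Vp Vm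
    rw [hsup, hdisj.eq_bot, finrank_bot, finrank_top, finrank_pi, Fintype.card_fin] at h
    omega
  have hdetX : LinearMap.det X = a ^ finrank F Vp * (-a) ^ finrank F Vm := by
    obtain ⟨bp, hbp, -, hsp⟩ := exists_family hF Vp hndp
    obtain ⟨bm, hbm, -, hsm⟩ := exists_family hF Vm hndm
    have hspan : ⊤ ≤ Submodule.span F (Set.range (Sum.elim bp bm)) := by
      rw [Set.Sum.elim_range, Submodule.span_union, ← hsp, ← hsm, hsup]
    let B := basisOfTopLeSpanOfCardEqFinrank (Sum.elim bp bm) hspan (by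
      rw [Fintype.card_sum, Fintype.card_fin, Fintype.card_fin, finrank_pi, Fintype.card_fin, hdim])
    have hB : ∀ k, X (B k) = Sum.elim (fun _ => a) (fun _ => -a) k • B k := fun k => by
      rw [show B k = Sum.elim bp bm k by simp [B]]
      rcases k with i | i
      · exact (hVp _).1 (hbp i)
      · rw [Sum.elim_inr, Sum.elim_inr, neg_smul]; exact (hVm _).1 (hbm i)
    rw [← LinearMap.det_toMatrix B, show LinearMap.toMatrix B B X = Matrix.diagonal (Sum.elim (fun _ => a) fun _ => -a) from ?_,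
      Matrix.det_diagonal, Fintype.prod_sum_type]
    · simp
    · ext i j
      rw [LinearMap.toMatrix_apply, hB, map_smul, Basis.repr_self, Finsupp.smul_single, smul_eq_mul, mul_one,
        Matrix.diagonal_apply, Finsupp.single_apply]
      by_cases h : i = j
      · subst h; simp
      · rw [if_neg h, if_neg (Ne.symm h)]
  have hem : Even (finrank F Vm) := by
    rw [← Nat.not_odd_iff_even]
    intro ho
    have h : a ^ (2 * m) = -1 := by
      have := hdet
      rw [← LinearMap.det_toLin', ← hX, hdetX, ho.neg_pow, mul_neg, ← pow_add, hdim] at this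
      linear_combination -this
    obtain ⟨t, ht⟩ : 2 ^ padicValNat 2 (q + 1) ∣ q + 1 := pow_padicValNat_dvd
    have hto : Odd t := by
      rw [← Nat.not_even_iff_odd]
      rintro ⟨k, rfl⟩
      have h1 : 2 ^ (padicValNat 2 (q + 1) + 1) ∣ q + 1 := ⟨k, by
        conv_lhs => rw [ht]
        rw [pow_succ]; ring⟩
      rw [padicValNat_dvd_iff_le (by omega)] at h1
      omega
    obtain ⟨l, hl⟩ : q + 1 ∣ 2 * m * t := by
      conv_lhs => rw [ht]
      exact mul_dvd_mul ((pow_dvd_pow 2 hval).trans pow_padicValNat_dvd) dvd_rfl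
    have h3 : a ^ (2 * m * t) = 1 := by rw [hl, pow_mul, h1, one_pow]
    rw [pow_mul, h, hto.neg_one_pow] at h3
    exact h2 (by linear_combination -h3)
  have hep : Even (finrank F Vp) := by
    obtain ⟨l, hl⟩ := hem
    exact ⟨m - l, by omega⟩
  obtain ⟨U₁, W₁, hU₁, hW₁, hs₁, hiU₁, hiW₁⟩ := exists_halves hF h2 Vp hndp hep
  obtain ⟨U₂, W₂, hU₂, hW₂, hs₂, hiU₂, hiW₂⟩ := exists_halves hF h2 Vm hndm hem
  have hts : ∀ A B : Submodule F (Fin (2 * m) → F), A ≤ Vp → B ≤ Vm → (∀ x ∈ A, ∀ y ∈ A, Cfsg.hermForm (2 * m) F q x y = 0) →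
      (∀ x ∈ B, ∀ y ∈ B, Cfsg.hermForm (2 * m) F q x y = 0) →
      ∀ x ∈ A ⊔ B, ∀ y ∈ A ⊔ B, Cfsg.hermForm (2 * m) F q x y = 0 := by
    intro A B hA hB hAi hBi x hx y hy
    obtain ⟨x₁, hx₁, x₂, hx₂, rfl⟩ := Submodule.mem_sup.1 hx
    obtain ⟨y₁, hy₁, y₂, hy₂, rfl⟩ := Submodule.mem_sup.1 hy
    show Unitary.herm q (x₁ + x₂) (y₁ + y₂) = 0
    simp only [Unitary.herm_add_left, Unitary.herm_add_right hF]
    simp only [Unitary.herm, hAi _ hx₁ _ hy₁, hBi _ hx₂ _ hy₂, horth _ (hA hx₁) _ (hB hy₂), horth' _ (hA hy₁) _ (hB hx₂),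
      add_zero]
  have hst : ∀ A B : Submodule F (Fin (2 * m) → F), A ≤ Vp → B ≤ Vm → ∀ v ∈ A ⊔ B,
      (x : Matrix (Fin (2 * m)) (Fin (2 * m)) F) *ᵥ v ∈ A ⊔ B := by
    intro A B hA hB v hv
    obtain ⟨v₁, hv₁, v₂, hv₂, rfl⟩ := Submodule.mem_sup.1 hv
    rw [← Matrix.toLin'_apply, ← hX, map_add, (hVp _).1 (hA hv₁), (hVm _).1 (hB hv₂)]
    exact Submodule.add_mem_sup (A.smul_mem _ hv₁) (B.neg_mem (B.smul_mem _ hv₂))
  refine ⟨U₁ ⊔ U₂, W₁ ⊔ W₂, isPair_of_sup hF rfl ?_ (hts _ _ hU₁ hU₂ hiU₁ hiU₂) (hts _ _ hW₁ hW₂ hiW₁ hiW₂),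
    hst _ _ hU₁ hU₂, hst _ _ hW₁ hW₂⟩
  rw [eq_top_iff, ← hsup]
  exact sup_le (hs₁.trans (sup_le_sup le_sup_left le_sup_left)) (hs₂.trans (sup_le_sup le_sup_right le_sup_right))

end Cfsg.Agent.PairU
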