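import Cfsg.Agent.PairU.Basic
import Cfsg.Agent.Lib.Forms.Sesq

/-!
Transitivity on pairs, the index of the stabiliser of a pair, and invariant pairs of involutions.
-/

set_option autoImplicit false
set_option linter.unusedSectionVars false

namespace Cfsg.Agent.PairU

open Module Matrix

variable {F : Type*} [Field F] [Fintype F] {n m q : ℕ} (hF : Fintype.card F = q ^ 2)

local notation "h₀" => Cfsg.hermForm n F q

include hF

theorem exists_pow_sub_one {δ : F} (hδ : δ ^ (q + 1) = 1) : ∃ μ : F, μ ≠ 0 ∧ μ⁻¹ ^ q * μ = δ := by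
  classical
  let f : Fˣ →* Fˣ := powMonoidHom (q - 1)
  have hq1 : 1 ≤ q := (Unitary.q_pos hF)
  have hsq : q ^ 2 - 1 = (q + 1) * (q - 1) := by rw [← Nat.sq_sub_sq, one_pow]
  have hle : f.range ≤ (powMonoidHom (q + 1) : Fˣ →* Fˣ).ker := by
    rintro _ ⟨u, rfl⟩
    rw [MonoidHom.mem_ker, powMonoidHom_apply, powMonoidHom_apply, ← pow_mul, mul_comm, ← hsq, ← hF,
      ← Fintype.card_units, pow_card_eq_one]
  have hker : Nat.card f.ker = q - 1 := by
    rw [IsCyclic.card_powMonoidHom_ker, Nat.card_units, Nat.card_eq_fintype_card, hF, hsq]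
    exact Nat.gcd_eq_right (dvd_mul_left _ _)
  have hr : Nat.card f.range = q + 1 := by
    rw [← Subgroup.index_ker]
    have := f.ker.card_mul_index
    rw [hker, Nat.card_units, Nat.card_eq_fintype_card, hF, hsq, mul_comm (q + 1)] at this
    have hq2 := Unitary.two_le_q hF
    exact Nat.eq_of_mul_eq_mul_left (by omega) this
  have heq : f.range = (powMonoidHom (q + 1) : Fˣ →* Fˣ).ker :=
    Subgroup.eq_of_le_of_card_ge hle (by rw [Unitary.card_norm_one_units hF, hr])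
  have hδ0 : δ ≠ 0 := fun e => by simp [e] at hδ
  obtain ⟨u, hu⟩ : Units.mk0 δ hδ0 ∈ f.range := heq ▸ Units.ext hδ
  have hu' : (u : F) ^ (q - 1) = δ := congrArg Units.val hu
  refine ⟨(u : F)⁻¹, inv_ne_zero u.ne_zero, ?_⟩
  rw [inv_inv, ← hu', pow_sub₀ _ u.ne_zero hq1, pow_one]

/-- `SU` is transitive on pairs. -/
theorem exists_move (hn : n = 2 * m) (hm : 0 < m) {U W U' W' : Submodule F (Fin n → F)}
    (hp : LagPair.IsPair h₀ m U W) (hp' : LagPair.IsPair h₀ m U' W') :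
    ∃ g ∈ Cfsg.GU n F q ⊓ Cfsg.Geo.specialLinear (Fin n) F,
      (∀ v ∈ U, (g : Matrix (Fin n) (Fin n) F) *ᵥ v ∈ U') ∧ (∀ v ∈ W, (g : Matrix (Fin n) (Fin n) F) *ᵥ v ∈ W') := by
  classical
  obtain ⟨C⟩ := exists_chart hF hn hp
  obtain ⟨C'⟩ := exists_chart hF hn hp'
  obtain ⟨G, hG⟩ := Unitary.exists_GU_of_linearEquiv hF (C.Φ.symm.trans C'.Φ) fun x y => by
    show h₀ (C'.Φ (C.Φ.symm x)) (C'.Φ (C.Φ.symm y)) = h₀ x y
    rw [C'.form, ← C.form, C.Φ.apply_symm_apply, C.Φ.apply_symm_apply]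
  have hGv : ∀ v, (G.1 : Matrix (Fin n) (Fin n) F) *ᵥ v = C'.Φ (C.Φ.symm v) := hG
  have hd0 : (Unitary.detGU G : F) ≠ 0 := Units.ne_zero _
  obtain ⟨μ, hμ0, hμ⟩ := exists_pow_sub_one hF (δ := (Unitary.detGU G : F)⁻¹) (by
    rw [inv_pow, Unitary.det_norm hF G, inv_one])
  obtain ⟨ψ, -, hψ⟩ := exists_block hF C
  let A : GL (Fin m) F := Matrix.GeneralLinearGroup.mk''
    (Matrix.diagonal (Function.update (1 : Fin m → F) ⟨0, hm⟩ μ))
    (by rw [det_diagonal, Finset.prod_update_of_mem (Finset.mem_univ _)]; simpa using hμ0)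
  have hA : (A : Matrix (Fin m) (Fin m) F).det = μ := by
    show (Matrix.diagonal _).det = μ
    rw [det_diagonal, Finset.prod_update_of_mem (Finset.mem_univ _)]; simp
  have hAi : ((A⁻¹ : GL (Fin m) F) : Matrix (Fin m) (Fin m) F).det = μ⁻¹ := by
    refine eq_inv_of_mul_eq_one_left ?_
    rw [← hA, ← det_mul, ← Units.val_mul, inv_mul_cancel, Units.val_one, det_one]
  obtain ⟨hψGU, hψU, hψW, hψd⟩ := hψ A
  refine ⟨G.1 * ψ A, ⟨mul_mem G.2 hψGU, ?_⟩, fun v hv => ?_, fun v hv => ?_⟩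
  · show Matrix.GeneralLinearGroup.det (G.1 * ψ A) = 1
    refine Units.ext ?_
    rw [Matrix.GeneralLinearGroup.val_det_apply, Units.val_mul, det_mul, hψd, blockMap_det, hA, hAi,
      ← Unitary.coe_detGU, mul_comm μ, hμ, mul_inv_cancel₀ hd0, Units.val_one]
  · rw [Units.val_mul, ← mulVec_mulVec, hGv]
    obtain ⟨a, ha⟩ := (C.left _).1 (hψU v hv)
    rw [← ha, C.Φ.symm_apply_apply]
    exact (C'.left _).2 ⟨a, rfl⟩
  · rw [Units.val_mul, ← mulVec_mulVec, hGv]
    obtain ⟨a, ha⟩ := (C.right _).1 (hψW v hv)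
    rw [← ha, C.Φ.symm_apply_apply]
    exact (C'.right _).2 ⟨a, rfl⟩

/-- The index of the stabiliser of a pair. -/
theorem card_dvd (hn : n = 2 * m) (hn0 : 0 < n) {D : Fin 2 → Submodule F (Fin n → F)}
    (hp : LagPair.IsPair h₀ m (D 0) (D 1)) :
    Nat.card (GL (Fin m) F) * (Cfsg.Geo.decompositionStabilizer D).relIndex
      (Cfsg.GU n F q ⊓ Cfsg.Geo.specialLinear (Fin n) F) ∣ Nat.card (Cfsg.GU n F q) := by
  classical
  obtain ⟨C⟩ := exists_chart hF hn hp
  obtain ⟨ψ, hinj, hψ⟩ := exists_block hF C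
  set H := Cfsg.Geo.decompositionStabilizer D
  set S := Cfsg.GU n F q ⊓ Cfsg.Geo.specialLinear (Fin n) F with hS
  let ψ' : GL (Fin m) F →* Cfsg.GU n F q := ψ.codRestrict _ fun A => (hψ A).1
  let χ : GL (Fin m) F →* Fˣ := (Unitary.detGU).comp ψ'
  have hr : Nat.card χ.range ∣ q + 1 := by
    rw [← Unitary.card_norm_one_units hF]
    refine Subgroup.card_dvd_of_le ?_
    rintro _ ⟨A, rfl⟩
    exact Units.ext (Unitary.det_norm hF (ψ' A))
  have hk : χ.ker.map ψ ≤ H ⊓ S := by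
    rintro _ ⟨A, hA, rfl⟩
    exact ⟨LagPair.mem_stab_of_fix (hψ A).2.1 (hψ A).2.2.1, (hψ A).1, hA⟩
  have h1 : Nat.card (GL (Fin m) F) ∣ (q + 1) * Nat.card ↥(H ⊓ S) := by
    rw [← χ.ker.card_mul_index, Subgroup.index_ker, mul_comm]
    refine mul_dvd_mul hr ?_
    rw [Nat.card_congr (χ.ker.equivMapOfInjective ψ hinj).toEquiv]
    exact Subgroup.card_dvd_of_le hk
  have h2 : Nat.card ↥(H ⊓ S) * H.relIndex S = Nat.card S := by
    rw [← Subgroup.inf_relIndex_right,
      ← Nat.card_congr (Subgroup.subgroupOfEquivOfLe (inf_le_right : H ⊓ S ≤ S)).toEquiv]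
    exact Subgroup.card_mul_index _
  have h3 : Nat.card S = Nat.card (Cfsg.SU n F q) := by
    refine (Nat.card_congr (Equiv.ofBijective (fun g : Cfsg.SU n F q =>
      (⟨Matrix.SpecialLinearGroup.toGL g.1, g.2, Units.ext g.1.2⟩ : S)) ⟨fun a b e => ?_, fun g => ?_⟩)).symm
    · exact Subtype.ext (Subtype.ext (congrArg (fun z : S => (z.1 : Matrix (Fin n) (Fin n) F)) e))
    · exact ⟨⟨⟨g.1.1, congrArg Units.val g.2.2⟩, g.2.1⟩, Subtype.ext (Units.ext rfl)⟩
  rw [← Unitary.card_SU_mul hF hn0, ← h3, ← h2, ← mul_assoc]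
  exact mul_dvd_mul_right h1 _

/-- The standard form as a sesquilinear map. -/
noncomputable def sesq : (Fin n → F) →ₛₗ[Unitary.conjHom hF] (Fin n → F) →ₗ[F] F :=
  LinearMap.mk₂'ₛₗ (Unitary.conjHom hF) (RingHom.id F) (fun u v => h₀ v u)
    (fun u u' v => Unitary.herm_add_right hF v u u')
    (fun c u v => by rw [Unitary.conjHom_apply]; exact Unitary.herm_smul_right hF c v u)
    (fun u v v' => Unitary.herm_add_left v v' u)
    (fun c u v => Unitary.herm_smul_left c v u)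

theorem exists_family (S : Submodule F (Fin n → F)) (hS : ∀ w ∈ S, (∀ v ∈ S, h₀ v w = 0) → w = 0) :
    ∃ b : Fin (finrank F S) → (Fin n → F), (∀ i, b i ∈ S) ∧ (∀ i j, h₀ (b j) (b i) = if i = j then 1 else 0) ∧
      S = Submodule.span F (Set.range b) := by
  obtain ⟨b, hb, hbo⟩ := Forms.exists_orthonormal_family (Unitary.conjHom_ne_id hF) (Unitary.pow_q_pow_q hF)
    (sesq hF) ⟨fun u v => by
      show (h₀ v u) ^ q = h₀ u v
      exact (Unitary.herm_swap hF v u).symm⟩ (finrank F S) S hS rfl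
  refine ⟨b, hb, hbo, (Submodule.eq_of_le_of_finrank_eq (Submodule.span_le.2 (Set.range_subset_iff.2 hb)) ?_).symm⟩
  rw [finrank_span_eq_card, Fintype.card_fin]
  rw [Fintype.linearIndependent_iff]
  intro g hg i
  have := congrArg (sesq hF (b i)) hg
  simpa [map_sum, hbo, Finset.sum_ite_eq] using this

/-- Two totally singular halves of an even-dimensional non-degenerate subspace. -/
theorem exists_halves (h2 : (2 : F) ≠ 0) (S : Submodule F (Fin n → F)) (hS : ∀ w ∈ S, (∀ v ∈ S, h₀ v w = 0) → w = 0)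
    (he : Even (finrank F S)) :
    ∃ U W : Submodule F (Fin n → F), U ≤ S ∧ W ≤ S ∧ S ≤ U ⊔ W ∧
      (∀ x ∈ U, ∀ y ∈ U, h₀ x y = 0) ∧ (∀ x ∈ W, ∀ y ∈ W, h₀ x y = 0) := by
  classical
  obtain ⟨b, hb, hbo, hspan⟩ := exists_family hF S hS
  obtain ⟨l, hl⟩ := he
  obtain ⟨c, hc⟩ := Unitary.exists_norm_eq hF (t := (-1 : F)) (by rw [Unitary.neg_pow_q hF, one_pow])
  let e₀ : Fin l → Fin (finrank F S) := fun i => ⟨2 * i.1, by omega⟩
  let e₁ : Fin l → Fin (finrank F S) := fun i => ⟨2 * i.1 + 1, by omega⟩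
  have hts : ∀ s : F, s ^ (q + 1) = -1 → ∀ x ∈ Submodule.span F (Set.range fun i => b (e₀ i) + s • b (e₁ i)),
      ∀ y ∈ Submodule.span F (Set.range fun i => b (e₀ i) + s • b (e₁ i)), h₀ x y = 0 := by
    intro s hs x hx y hy
    have hg : ∀ i j, h₀ (b (e₀ i) + s • b (e₁ i)) (b (e₀ j) + s • b (e₁ j)) = 0 := fun i j => by
      show Unitary.herm q (b (e₀ i) + s • b (e₁ i)) (b (e₀ j) + s • b (e₁ j)) = 0
      simp only [Unitary.herm_add_left, Unitary.herm_add_right hF, Unitary.herm_smul_left, Unitary.herm_smul_right hF]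
      simp only [Unitary.herm, hbo, e₀, e₁, Fin.ext_iff]
      by_cases h : i = j
      · subst h
        rw [if_pos rfl, if_neg (by omega), if_neg (by omega), if_pos rfl]
        rw [pow_succ] at hs
        linear_combination hs
      · have := Fin.val_ne_of_ne h
        rw [if_neg (by omega), if_neg (by omega), if_neg (by omega), if_neg (by omega)]
        ring
    have hy' : ∀ i, h₀ (b (e₀ i) + s • b (e₁ i)) y = 0 := fun i => by
      induction hy using Submodule.span_induction with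
      | mem z hz => obtain ⟨j, rfl⟩ := hz; exact hg i j
      | zero => exact Unitary.herm_zero_right hF _
      | add a b _ _ ha hb => exact (Unitary.herm_add_right hF _ _ _).trans (by
          show h₀ _ a + h₀ _ b = 0
          rw [ha, hb, add_zero])
      | smul t a _ ha => exact (Unitary.herm_smul_right hF _ _ _).trans (by
          show t ^ q * h₀ _ a = 0
          rw [ha, mul_zero])
    induction hx using Submodule.span_induction with
    | mem z hz => obtain ⟨j, rfl⟩ := hz; exact hy' j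
    | zero => exact Unitary.herm_zero_left _
    | add a b _ _ ha hb => exact (Unitary.herm_add_left _ _ _).trans (by
        show h₀ a _ + h₀ b _ = 0
        rw [ha, hb, add_zero])
    | smul t a _ ha => exact (Unitary.herm_smul_left _ _ _).trans (by
        show t * h₀ a _ = 0
        rw [ha, mul_zero])
  have hc' : (-c) ^ (q + 1) = -1 := by
    rw [pow_succ, Unitary.neg_pow_q hF, neg_mul_neg, ← pow_succ, hc]
  have hle : ∀ s : F, Submodule.span F (Set.range fun i => b (e₀ i) + s • b (e₁ i)) ≤ S := fun s =>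
    Submodule.span_le.2 (Set.range_subset_iff.2 fun i => S.add_mem (hb _) (S.smul_mem _ (hb _)))
  refine ⟨_, _, hle c, hle (-c), ?_, hts c hc, hts (-c) hc'⟩
  rw [hspan, Submodule.span_le]
  rintro _ ⟨k, rfl⟩
  have hc0 : c ≠ 0 := fun e => by simp [e] at hc
  obtain ⟨i, hi | hi⟩ : ∃ i : Fin l, k = e₀ i ∨ k = e₁ i :=
    ⟨⟨k.1 / 2, by omega⟩, by simp only [e₀, e₁, Fin.ext_iff]; omega⟩
  · rw [hi, show b (e₀ i) = (2 : F)⁻¹ • (b (e₀ i) + c • b (e₁ i)) + (2 : F)⁻¹ • (b (e₀ i) + (-c) • b (e₁ i)) by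
      match_scalars <;> field_simp <;> ring]
    exact Submodule.add_mem_sup (Submodule.smul_mem _ _ (Submodule.subset_span ⟨i, rfl⟩))
      (Submodule.smul_mem _ _ (Submodule.subset_span ⟨i, rfl⟩))
  · rw [hi, show b (e₁ i) = (2 * c)⁻¹ • (b (e₀ i) + c • b (e₁ i)) + (-(2 * c)⁻¹) • (b (e₀ i) + (-c) • b (e₁ i)) by
      match_scalars <;> field_simp <;> ring]
    exact Submodule.add_mem_sup (Submodule.smul_mem _ _ (Submodule.subset_span ⟨i, rfl⟩))
      (Submodule.smul_mem _ _ (Submodule.subset_span ⟨i, rfl⟩))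

end Cfsg.Agent.PairU
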